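import Groth.Agent.DeltaF.K988.Univ
import Mathlib.CategoryTheory.Abelian.DiagramLemmas.Four
import Mathlib.CategoryTheory.Abelian.FunctorCategory
import Mathlib.CategoryTheory.Limits.FunctorCategory.EpiMono

/-!
# Comparison of an effaceable delta-functor with another one in low degrees
-/

set_option autoImplicit false
set_option linter.style.haveILetI false

universe v u v' u'

open CategoryTheory CategoryTheory.Limits

namespace K988.DeltaFCmp

open DeltaF DeltaF.CohDeltaFunctor K988.DeltaFUniv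

variable {A : Type u} [Category.{v} A] [Abelian A] {B : Type u'} [Category.{v'} B] [Abelian B]
  {T T' : CohDeltaFunctor A B ℕ}

/-- If `φ` is an isomorphism in degree `m` and `T` is effaceable, then `φ` is a monomorphism in
degree `m + 1`. -/
lemma mono_succ (hT : T.IsEffaceable) (φ : T ⟶ T') (m : ℕ) (h : IsIso (φ.app m)) :
    Mono (φ.app (m + 1)) := by
  haveI : ∀ X : A, Mono ((φ.app (m + 1)).app X) := by
    intro X
    let u := effMor hT m X
    have hS := cokSES_shortExact u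
    haveI := epi_δ T hS m (map_effMor hT m X)
    refine Preadditive.mono_of_cancel_zero _ fun {P} x hx => ?_
    obtain ⟨P', π, hπ, z, hz⟩ := surjective_up_to_refinements_of_epi (T.δ _ hS m (m + 1) rfl) x
    have h1 : (z ≫ (φ.app m).app (cokSES u).X₃) ≫ T'.δ _ hS m (m + 1) rfl = 0 := by
      rw [Category.assoc, ← φ.comm _ hS m (m + 1) rfl, ← Category.assoc, ← hz, Category.assoc]
      erw [hx]
      rw [comp_zero]
    obtain ⟨P'', π', hπ', y, hy⟩ := (T'.exact₃ _ hS m (m + 1) rfl).exact_up_to_refinements _ h1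
    dsimp at y hy
    have h2 : π' ≫ z = (y ≫ inv ((φ.app m).app (cokSES u).X₂)) ≫ (T.F m).map (cokSES u).g := by
      rw [← cancel_mono ((φ.app m).app (cokSES u).X₃), Category.assoc, Category.assoc,
        Category.assoc, (φ.app m).naturality, IsIso.inv_hom_id_assoc]
      exact hy
    have h3 : (π' ≫ π) ≫ x = 0 := by
      rw [Category.assoc, hz, ← Category.assoc, h2, Category.assoc, T.comp_δ, comp_zero]
    exact (cancel_epi (π' ≫ π)).1 (by rw [h3, comp_zero])
  exact NatTrans.mono_of_mono_app _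

/-- If `φ` is an epimorphism in degree `m` and `T'` is effaceable in degree `m + 1`, then `φ` is an
epimorphism in degree `m + 1`. -/
lemma epi_succ (φ : T ⟶ T') (m : ℕ) (h : Epi (φ.app m))
    (hT' : ∀ X : A, ∃ (Y : A) (u : X ⟶ Y), Mono u ∧ (T'.F (m + 1)).map u = 0) :
    Epi (φ.app (m + 1)) := by
  haveI : ∀ X : A, Epi ((φ.app (m + 1)).app X) := by
    intro X
    obtain ⟨Y, u, hu, hu0⟩ := hT' X
    have hS := cokSES_shortExact u
    haveI := epi_δ T' hS m hu0
    have e := φ.comm _ hS m (m + 1) rfl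
    haveI : Epi ((φ.app m).app (cokSES u).X₃) := (NatTrans.epi_iff_epi_app (φ.app m)).1 h _
    haveI : Epi (T.δ _ hS m (m + 1) rfl ≫ (φ.app (m + 1)).app (cokSES u).X₁) := by
      rw [e]
      exact epi_comp _ _
    exact epi_of_epi (T.δ _ hS m (m + 1) rfl) ((φ.app (m + 1)).app (cokSES u).X₁)
  exact NatTrans.epi_of_epi_app _

lemma isIso_of_b (hT : T.IsEffaceable) (φ : T ⟶ T') (n : ℕ) (h0 : Mono (φ.app 0))
    (h : ∀ i : ℕ, i ≤ n → Epi (φ.app i)) : ∀ i : ℕ, i ≤ n → IsIso (φ.app i) := by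
  intro i
  induction i with
  | zero =>
    intro hi
    haveI := h 0 hi
    exact isIso_of_mono_of_epi _
  | succ m ih =>
    intro hi
    haveI := h _ hi
    haveI := mono_succ hT φ m (ih (by omega))
    exact isIso_of_mono_of_epi _

lemma isIso_of_c (hT : T.IsEffaceable) (φ : T ⟶ T') (n : ℕ) (h0 : IsIso (φ.app 0))
    (h : ∀ i : ℕ, 0 < i → i ≤ n → ∀ X : A, ∃ (Y : A) (u : X ⟶ Y), Mono u ∧ (T'.F i).map u = 0) :
    ∀ i : ℕ, i ≤ n → IsIso (φ.app i) := by
  intro i
  induction i with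
  | zero => intro _; exact h0
  | succ m ih =>
    intro hi
    haveI := ih (by omega)
    haveI := mono_succ hT φ m (ih (by omega))
    haveI := epi_succ φ m inferInstance (h (m + 1) (by omega) hi)
    exact isIso_of_mono_of_epi _

theorem iso_le_mono_succ_iff (hT : T.IsEffaceable) (φ : T ⟶ T') (n : ℕ) :
    ((∀ i : ℕ, i ≤ n → IsIso (φ.app i)) ∧ Mono (φ.app (n + 1)) ↔
      (Mono (φ.app 0) ∧ ∀ i : ℕ, i ≤ n → Epi (φ.app i))) ∧
    ((∀ i : ℕ, i ≤ n → IsIso (φ.app i)) ∧ Mono (φ.app (n + 1)) ↔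
      (IsIso (φ.app 0) ∧ ∀ i : ℕ, 0 < i → i ≤ n → ∀ X : A,
        ∃ (Y : A) (u : X ⟶ Y), Mono u ∧ (T'.F i).map u = 0)) := by
  refine ⟨⟨?_, ?_⟩, ⟨?_, ?_⟩⟩
  · rintro ⟨h1, -⟩
    refine ⟨?_, fun i hi => ?_⟩
    · haveI := h1 0 (Nat.zero_le _); infer_instance
    · haveI := h1 i hi; infer_instance
  · rintro ⟨h0, h⟩
    have := isIso_of_b hT φ n h0 h
    exact ⟨this, mono_succ hT φ n (this n le_rfl)⟩
  · rintro ⟨h1, -⟩
    refine ⟨h1 0 (Nat.zero_le _), fun i hi0 hi X => ?_⟩
    obtain ⟨m, rfl⟩ : ∃ m, i = m + 1 := ⟨i - 1, by omega⟩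
    refine ⟨_, effMor hT m X, inferInstance, ?_⟩
    haveI := h1 (m + 1) hi
    rw [← cancel_epi ((φ.app (m + 1)).app X), ← (φ.app (m + 1)).naturality, map_effMor, zero_comp,
      comp_zero]
  · rintro ⟨h0, h⟩
    have := isIso_of_c hT φ n h0 h
    exact ⟨this, mono_succ hT φ n (this n le_rfl)⟩

end K988.DeltaFCmp
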