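import Groth.Prelude.Def_DeltaF
import Mathlib.CategoryTheory.Abelian.Injective.Basic
import Mathlib.CategoryTheory.Abelian.Refinements

/-!
# Effaceable delta-functors: extension of natural transformations to the next degree
-/

set_option autoImplicit false
set_option linter.style.haveILetI false

universe v u v' u'

open CategoryTheory CategoryTheory.Limits

namespace K988.DeltaFUniv

open DeltaF DeltaF.CohDeltaFunctor

variable {A : Type u} [Category.{v} A] [Abelian A] {B : Type u'} [Category.{v'} B] [Abelian B]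

/-- The short complex `X → Y → Y/X` of a morphism `u`. -/
noncomputable abbrev cokSES {X Y : A} (u : X ⟶ Y) : ShortComplex A :=
  ShortComplex.mk u (cokernel.π u) (cokernel.condition u)

lemma cokSES_shortExact {X Y : A} (u : X ⟶ Y) [Mono u] : (cokSES u).ShortExact where
  exact := ShortComplex.exact_of_g_is_cokernel _ (cokernelIsCokernel u)
  mono_f := by dsimp; infer_instance
  epi_g := by dsimp; infer_instance

/-- If `T^{n+1}(S.f) = 0` then the connecting morphism is an epimorphism. -/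
lemma epi_δ (T : CohDeltaFunctor A B ℕ) {S : ShortComplex A} (hS : S.ShortExact) (n : ℕ)
    (h : (T.F (n + 1)).map S.f = 0) : Epi (T.δ S hS n (n + 1) rfl) :=
  (T.exact₁ S hS n (n + 1) rfl).epi_f h

section Extend

variable {T T' : CohDeltaFunctor A B ℕ} {n : ℕ} (a : T.F n ⟶ T'.F n)

/-- The map in degree `n + 1` defined by a short exact sequence effacing `T^{n+1}(S.X₁)`. -/
noncomputable def extS {S : ShortComplex A} (hS : S.ShortExact) (h : (T.F (n + 1)).map S.f = 0) :
    (T.F (n + 1)).obj S.X₁ ⟶ (T'.F (n + 1)).obj S.X₁ :=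
  haveI := epi_δ T hS n h
  (T.exact₃ S hS n (n + 1) rfl).desc (a.app S.X₃ ≫ T'.δ S hS n (n + 1) rfl) (by
    dsimp
    rw [← Category.assoc, a.naturality, Category.assoc, T'.comp_δ, comp_zero])

lemma δ_extS {S : ShortComplex A} (hS : S.ShortExact) (h : (T.F (n + 1)).map S.f = 0) :
    T.δ S hS n (n + 1) rfl ≫ extS a hS h = a.app S.X₃ ≫ T'.δ S hS n (n + 1) rfl := by
  haveI := epi_δ T hS n h
  exact (T.exact₃ S hS n (n + 1) rfl).g_desc _ _

lemma extS_natural {S S' : ShortComplex A} (hS : S.ShortExact) (hS' : S'.ShortExact)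
    (h : (T.F (n + 1)).map S.f = 0) (h' : (T.F (n + 1)).map S'.f = 0) (φ : S ⟶ S') :
    (T.F (n + 1)).map φ.τ₁ ≫ extS a hS' h' = extS a hS h ≫ (T'.F (n + 1)).map φ.τ₁ := by
  haveI := epi_δ T hS n h
  rw [← cancel_epi (T.δ S hS n (n + 1) rfl), ← Category.assoc, ← T.δ_natural hS hS' φ,
    Category.assoc, δ_extS, ← Category.assoc, a.naturality, Category.assoc,
    T'.δ_natural hS hS' φ, ← Category.assoc, ← Category.assoc, δ_extS]

/-- Naturality with respect to an arbitrary morphism of the first terms. -/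
lemma extS_natural' {S S' : ShortComplex A} (hS : S.ShortExact) (hS' : S'.ShortExact)
    (h : (T.F (n + 1)).map S.f = 0) (h' : (T.F (n + 1)).map S'.f = 0) (f : S.X₁ ⟶ S'.X₁) :
    (T.F (n + 1)).map f ≫ extS a hS' h' = extS a hS h ≫ (T'.F (n + 1)).map f := by
  haveI := hS.mono_f
  haveI := hS'.mono_f
  haveI := hS.epi_g
  haveI := hS'.epi_g
  -- the pushout of `S.f` and `f ≫ S'.f`
  let w : S'.X₁ ⟶ pushout S.f (f ≫ S'.f) := S'.f ≫ pushout.inr _ _
  haveI : Mono w := mono_comp _ _
  have hS'' := cokSES_shortExact w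
  have h'' : (T.F (n + 1)).map (cokSES w).f = 0 := by
    change (T.F (n + 1)).map (S'.f ≫ pushout.inr _ _) = 0
    rw [Functor.map_comp, h', zero_comp]
  let c : S.X₂ ⟶ (cokSES w).X₂ := pushout.inl _ _
  have hc : f ≫ (cokSES w).f = S.f ≫ c := by
    change f ≫ S'.f ≫ pushout.inr _ _ = S.f ≫ pushout.inl _ _
    rw [pushout.condition, Category.assoc]
  let d : S.X₃ ⟶ (cokSES w).X₃ := hS.exact.desc (c ≫ (cokSES w).g) (by
    rw [← Category.assoc, ← hc, Category.assoc, (cokSES w).zero, comp_zero])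
  let φ : S ⟶ cokSES w :=
    { τ₁ := f, τ₂ := c, τ₃ := d, comm₁₂ := hc, comm₂₃ := (hS.exact.g_desc _ _).symm }
  let c' : S'.X₂ ⟶ (cokSES w).X₂ := pushout.inr _ _
  have hc' : 𝟙 S'.X₁ ≫ (cokSES w).f = S'.f ≫ c' := Category.id_comp _
  let d' : S'.X₃ ⟶ (cokSES w).X₃ := hS'.exact.desc (c' ≫ (cokSES w).g) (by
    rw [← Category.assoc, ← hc', Category.assoc, (cokSES w).zero, comp_zero])
  let φ' : S' ⟶ cokSES w :=
    { τ₁ := 𝟙 _, τ₂ := c', τ₃ := d', comm₁₂ := hc', comm₂₃ := (hS'.exact.g_desc _ _).symm }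
  have e1 := extS_natural a hS hS'' h h'' φ
  have e2 := extS_natural a hS' hS'' h' h'' φ'
  change (T.F (n + 1)).map f ≫ extS (S := cokSES w) a hS'' h'' =
    extS a hS h ≫ (T'.F (n + 1)).map f at e1
  change (T.F (n + 1)).map (𝟙 S'.X₁) ≫ extS (S := cokSES w) a hS'' h'' =
    extS a hS' h' ≫ (T'.F (n + 1)).map (𝟙 S'.X₁) at e2
  rw [CategoryTheory.Functor.map_id, CategoryTheory.Functor.map_id, Category.comp_id] at e2
  erw [Category.id_comp] at e2
  rw [← e2, e1]

variable (hT : T.IsEffaceable)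

/-- The chosen effacing monomorphism. -/
noncomputable def effMor (hT : T.IsEffaceable) (n : ℕ) (X : A) : X ⟶ (hT n X).choose :=
  (hT n X).choose_spec.choose

instance mono_effMor (hT : T.IsEffaceable) (n : ℕ) (X : A) : Mono (effMor hT n X) :=
  (hT n X).choose_spec.choose_spec.1

lemma map_effMor (hT : T.IsEffaceable) (n : ℕ) (X : A) : (T.F (n + 1)).map (effMor hT n X) = 0 :=
  (hT n X).choose_spec.choose_spec.2

/-- The extension of a natural transformation in degree `n` to degree `n + 1`. -/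
noncomputable def ext : T.F (n + 1) ⟶ T'.F (n + 1) where
  app X := extS a (cokSES_shortExact (effMor hT n X)) (map_effMor hT n X)
  naturality X Y f :=
    extS_natural' a (cokSES_shortExact (effMor hT n X)) (cokSES_shortExact (effMor hT n Y))
      (map_effMor hT n X) (map_effMor hT n Y) f

lemma δ_ext (S : ShortComplex A) (hS : S.ShortExact) :
    T.δ S hS n (n + 1) rfl ≫ (ext a hT).app S.X₁ = a.app S.X₃ ≫ T'.δ S hS n (n + 1) rfl := by
  haveI := hS.mono_f
  haveI := hS.epi_g
  let u := effMor hT n S.X₁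
  let w : S.X₁ ⟶ pushout S.f u := u ≫ pushout.inr _ _
  haveI : Mono w := mono_comp _ _
  have hS'' := cokSES_shortExact w
  have h'' : (T.F (n + 1)).map (cokSES w).f = 0 := by
    change (T.F (n + 1)).map (u ≫ pushout.inr _ _) = 0
    rw [Functor.map_comp, map_effMor, zero_comp]
  let c : S.X₂ ⟶ (cokSES w).X₂ := pushout.inl _ _
  have hc : 𝟙 S.X₁ ≫ (cokSES w).f = S.f ≫ c := by
    change 𝟙 S.X₁ ≫ u ≫ pushout.inr _ _ = S.f ≫ pushout.inl _ _
    rw [pushout.condition, Category.id_comp]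
  let d : S.X₃ ⟶ (cokSES w).X₃ := hS.exact.desc (c ≫ (cokSES w).g) (by
    rw [← Category.assoc, ← hc, Category.assoc, (cokSES w).zero, comp_zero])
  let φ : S ⟶ cokSES w :=
    { τ₁ := 𝟙 _, τ₂ := c, τ₃ := d, comm₁₂ := hc, comm₂₃ := (hS.exact.g_desc _ _).symm }
  have e0 : extS a hS'' h'' = (ext a hT).app S.X₁ := by
    have := extS_natural' a (cokSES_shortExact u) hS'' (map_effMor hT n S.X₁) h'' (𝟙 S.X₁)
    rw [CategoryTheory.Functor.map_id, CategoryTheory.Functor.map_id] at this
    erw [Category.id_comp, Category.comp_id] at this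
    exact this
  have e1 := T.δ_natural hS hS'' φ n (n + 1) rfl
  have e2 := T'.δ_natural hS hS'' φ n (n + 1) rfl
  change (T.F n).map d ≫ _ = _ ≫ (T.F (n + 1)).map (𝟙 S.X₁) at e1
  change (T'.F n).map d ≫ _ = _ ≫ (T'.F (n + 1)).map (𝟙 S.X₁) at e2
  rw [CategoryTheory.Functor.map_id, Category.comp_id] at e1 e2
  rw [← e1, ← e2, ← e0, Category.assoc, δ_extS, ← Category.assoc, a.naturality, Category.assoc]

/-- Uniqueness of the extension. -/
lemma ext_unique (hT : T.IsEffaceable) (b b' : T.F (n + 1) ⟶ T'.F (n + 1))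
    (hb : ∀ (S : ShortComplex A) (hS : S.ShortExact),
      T.δ S hS n (n + 1) rfl ≫ b.app S.X₁ = T.δ S hS n (n + 1) rfl ≫ b'.app S.X₁) : b = b' := by
  ext X
  haveI := epi_δ T (cokSES_shortExact (effMor hT n X)) n (map_effMor hT n X)
  rw [← cancel_epi (T.δ _ (cokSES_shortExact (effMor hT n X)) n (n + 1) rfl)]
  exact hb _ (cokSES_shortExact (effMor hT n X))

end Extend

section Univ

variable {T : CohDeltaFunctor A B ℕ} (hT : T.IsEffaceable) (T' : CohDeltaFunctor A B ℕ)
  (t : T.F 0 ⟶ T'.F 0)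

/-- The components of the morphism extending `t`. -/
noncomputable def comps : (n : ℕ) → (T.F n ⟶ T'.F n)
  | 0 => t
  | (n + 1) => ext (comps n) hT

/-- The morphism of delta-functors extending `t`. -/
noncomputable def univHom : T ⟶ T' :=
  { app := comps hT T' t
    comm := fun S hS n₀ n₁ h => by
      subst h
      exact δ_ext (comps hT T' t n₀) hT S hS : CohDeltaFunctor.Hom T T' }

theorem isUniversal (hT : T.IsEffaceable) : T.IsUniversal := by
  intro T' t
  refine ⟨univHom hT T' t, rfl, ?_⟩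
  intro τ hτ
  refine CohDeltaFunctor.hom_ext fun n => ?_
  induction n with
  | zero => exact hτ
  | succ n ih =>
    refine ext_unique hT _ _ fun S hS => ?_
    have e1 := τ.comm S hS n (n + 1) rfl
    have e2 := (univHom hT T' t).comm S hS n (n + 1) rfl
    rw [e1, e2, ih]

end Univ

/-- Two universal delta-functors with isomorphic degree-zero parts are uniquely isomorphic. -/
theorem existsUnique_iso (T T' : CohDeltaFunctor A B ℕ) (hT : T.IsUniversal) (hT' : T'.IsUniversal)
    (e : T.F 0 ≅ T'.F 0) : ∃! φ : T ≅ T', φ.hom.app 0 = e.hom := by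
  obtain ⟨a, ha, ha'⟩ := hT T' e.hom
  obtain ⟨b, hb, hb'⟩ := hT' T e.inv
  have h1 : a ≫ b = 𝟙 T := by
    obtain ⟨c, hc, hc'⟩ := hT T (𝟙 _)
    rw [hc' (a ≫ b) (by dsimp only; rw [comp_app, ha, hb, e.hom_inv_id]), hc' (𝟙 T) rfl]
  have h2 : b ≫ a = 𝟙 T' := by
    obtain ⟨c, hc, hc'⟩ := hT' T' (𝟙 _)
    rw [hc' (b ≫ a) (by dsimp only; rw [comp_app, ha, hb, e.inv_hom_id]), hc' (𝟙 T') rfl]
  refine ⟨⟨a, b, h1, h2⟩, ha, ?_⟩
  intro φ hφ
  ext1
  exact ha' _ hφ

/-- Effaceability in the presence of enough injectives. -/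
theorem isEffaceable_iff [EnoughInjectives A] (T : CohDeltaFunctor A B ℕ) :
    T.IsEffaceable ↔ ∀ (n : ℕ) (I : A), Injective I → IsZero ((T.F (n + 1)).obj I) := by
  constructor
  · intro h n I hI
    obtain ⟨Y, u, hu, hu0⟩ := h n I
    rw [IsZero.iff_id_eq_zero, ← CategoryTheory.Functor.map_id, ← Injective.comp_factorThru (𝟙 I) u,
      Functor.map_comp, hu0, zero_comp]
  · intro h n X
    exact ⟨Injective.under X, Injective.ι X, inferInstance,
      (h n (Injective.under X) inferInstance).eq_of_tgt _ _⟩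

end K988.DeltaFUniv
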